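import Cfsg.Agent.H470.NoBad
import Cfsg.Agent.CpAutLy.Row
import Cfsg.Agent.R10.Close

/-!
# The Lyons group has no bad elements of order 3 (helper491, for S3877)
-/

set_option autoImplicit false

namespace Cfsg.Agent.H491.NoBadLy

open Subgroup Cfsg Cfsg.Agent.H470
open Cfsg.Spor (Ly)

/-- a double cover of a simple group of even order -/
theorem oddFree_of_cover {H S : Type*} [Group H] [Finite H] [Group S] [IsSimpleGroup S] (h2 : Even (Nat.card S))
    (h : IsNonsplitDoubleCover H S) : OddFree 3 H := by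
  obtain ⟨hc, ⟨e⟩, -⟩ := h
  have hS : Finite S := Finite.of_equiv _ e.toEquiv
  have h3 : OddFree 3 S := OddFree.of_simple (by norm_num) h2
  refine OddFree.of_surj Nat.prime_three (QuotientGroup.mk' (center H)) (QuotientGroup.mk'_surjective _) ?_
    (h3.congr Nat.prime_three e)
  intro x hx hx3
  have h4 : x ∈ center H := (QuotientGroup.eq_one_iff x).1 hx
  have h5 := orderOf_dvd_natCard (⟨x, h4⟩ : ↥(center H))
  rw [Subgroup.orderOf_mk, hx3, hc] at h5
  norm_num at h5

theorem oddFree_cent {s : Ly} (hs : orderOf s = 2) : OddFree 3 ↥(centralizer ({s} : Set Ly)) := by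
  have hfin : Finite Ly := Cfsg.Agent.Ly.Setup.finite_ly
  obtain ⟨g, hg⟩ := Cfsg.Agent.R10.Close.one_class hs
  have hA : IsSimpleGroup (alternatingGroup (Fin 11)) := alternatingGroup.isSimpleGroup (by simp)
  have h1 := oddFree_of_cover (S := alternatingGroup (Fin 11)) (by
    rw [Nat.card_eq_fintype_card, card_alternatingGroup]
    decide) Cfsg.Agent.R10.Close.cover_τ.2
  exact h1.congr Nat.prime_three (Cfsg.Agent.CpAutLy.McLThree.centEquiv hg).symm

theorem noBad_Ly {K : Type*} [Group K] [Finite K] (h : Cfsg.Spor.IsoLy K) : NoBad 3 K := by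
  obtain ⟨e⟩ := h
  refine NoBad.congr e.symm ?_
  intro x hx
  have hfin : Finite Ly := Cfsg.Agent.Ly.Setup.finite_ly
  have hcard := Cfsg.Agent.Ly.Setup.card_ly
  obtain ⟨x₀, h₀⟩ := Cfsg.Agent.CpAutLy.Base.exists_three
  obtain ⟨-, hs, hq, -⟩ := TypeM.FactsMcL.facts h₀.quot
  obtain ⟨s, hs2, hsx, -⟩ := Cfsg.Agent.CpAutLy.Row.exists_base_nn h₀
  set M := centralizer ({x₀} : Set Ly) with hM
  have hcM : Nat.card M = 2694384000 := by
    have h1 := (center ↥M).card_mul_index
    have h2 : (center ↥M).index = 898128000 := by rw [← hq]; rfl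
    rw [h₀.zcard, h2] at h1
    omega
  have hidx : M.index = 19212250 := by
    have h1 := M.card_mul_index
    rw [hcM, hcard] at h1
    omega
  have hMt : M ≠ ⊤ := by
    intro h1
    rw [h1, index_top] at hidx
    norm_num at hidx
  obtain ⟨g, N, h1, h2, h3, h4⟩ := hx.exists_normal Nat.prime_three hMt (by rw [hidx]; norm_num)
  -- the conjugate of `x` is in the center of `M`
  have hN : (N.subgroupOf M).Normal := ⟨fun n hn g => by
    rw [mem_subgroupOf] at hn ⊢
    exact h2 g g.2 n hn⟩
  have hcN : Nat.card (N.subgroupOf M) = Nat.card N := Nat.card_congr (Subgroup.subgroupOfEquivOfLe h1).toEquiv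
  have hz : N.subgroupOf M ≤ center ↥M := by
    have hn : ((N.subgroupOf M).map (QuotientGroup.mk' (center ↥M))).Normal :=
      hN.map _ (QuotientGroup.mk'_surjective _)
    have hodd : Odd (Nat.card ((N.subgroupOf M).map (QuotientGroup.mk' (center ↥M)))) := by
      refine Odd.of_dvd_nat ?_ (Subgroup.card_map_dvd _ _)
      rwa [hcN]
    rcases hn.eq_bot_or_eq_top with h5 | h5
    · intro y hy
      have h6 : QuotientGroup.mk' (center ↥M) y ∈ (N.subgroupOf M).map (QuotientGroup.mk' (center ↥M)) :=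
        mem_map_of_mem _ hy
      rw [h5, mem_bot] at h6
      exact (QuotientGroup.eq_one_iff y).1 h6
    · exfalso
      rw [h5, card_top, hq] at hodd
      exact absurd hodd (by decide)
  have hc : (⟨g * x * g⁻¹, h1 h4⟩ : ↥M) ∈ center ↥M := hz (mem_subgroupOf.2 h4)
  have hsM : s ∈ M := mem_centralizer_singleton_iff.2 hsx
  have hcomm : (g * x * g⁻¹) * s = s * (g * x * g⁻¹) :=
    congrArg Subtype.val ((mem_center_iff.1 hc ⟨s, hsM⟩).symm)
  refine (hx.conj g).false_of_comm (t := s) ?_ hcomm (oddFree_cent hs2)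
  intro h5
  have h6 : center Ly = ⊥ := by
    have hsim := Cfsg.Agent.Ly.Setup.isLy.1
    rcases (inferInstance : (center Ly).Normal).eq_bot_or_eq_top with h6 | h6
    · exact h6
    · exfalso
      apply hMt
      rw [eq_top_iff]
      intro y _
      have h7 : y ∈ center Ly := by rw [h6]; exact mem_top _
      rw [hM, mem_centralizer_singleton_iff]
      exact (mem_center_iff.1 h7 x₀).symm
  rw [h6, mem_bot] at h5
  rw [h5, orderOf_one] at hs2
  omega

end Cfsg.Agent.H491.NoBadLy
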